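import Cfsg.Agent.FS.N.M.F.La

/-!
# Models on `eLa1` (helper44, project FS/N; generated)
-/

set_option autoImplicit false

namespace Cfsg.Agent.FS.N.M

open Cfsg Cfsg.Agent.FS.Real

/-- relations `[[0], [10, 8], [4, 12, 0], [8, 8, 8, 0]]` -/
def eLa1 : PcD := ⟨4, 0x88800c4008a0000, 0x76543210fedcba98ba98fedc32107654dc7610ba54fe983267cd2389ef45ab01, 0x76543210fedcba98ba98fedc3210765454fe9832dc7610ba67cd2389ef45ab01, 0xf1001f00f10010, [5, 8, 13]⟩

theorem eLa1_ok : eLa1.Ok := PcD.ok_spec _ (by decide +kernel)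

namespace La_1

open La

/-- the codes of the generators -/
def X : ℕ → ℕ := get 37 0x80108010008400480020102008210011001

theorem ex : ∃ x, MA.RX eLa1 X x := Mdl.exists_RX (W := get 1 0) (by decide +kernel)

/-- the generators in the ambient group -/
noncomputable def y := Classical.choose ex

theorem hy : MA.RX eLa1 X y := Classical.choose_spec ex

/-- the group -/
abbrev G : Type := Φ.Gp eLa1 y

/-- the generators -/
noncomputable abbrev x : ℕ → G := extX Φ.N eLa1.n y

/-- the certificates -/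
def ct : Ct where
  lc := [(5, 3, 0x52299115), (3, 5, 0), (14, 4, 0x158aaa41), (8, 4, 0x42244114), (4, 6, 0x5a244515),
    (13, 1, 0x64911866), (1, 13, 0), (12, 6, 0x849aa868)]
  ec := [(1, 6), (3, 4), (4, 6)]
  lr := [⟨4, 0x565999a5, 0, 2, 3⟩, ⟨6, 0x54899845, 0, 2, 3⟩]
  ls := [(6, 4), (4, 2), (2, 2), (2, 6)]
  g0 := [12, 8, 14]
  K := 0x5555
  e := 3
  zl := [8]
  o := []
  ln := []
  en := []

theorem nm : Φ.nms X eLa1.n = true := by decide +kernel

theorem rels : MA.rels eLa1 X = true := by decide +kernel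

theorem chkM : ct.chkM (Φ.md ts eLa1 y) eLa1 X = true := by decide +kernel

theorem chkD : ct.chkD eLa1 = true := by decide +kernel

theorem all : Base eLa1 G x ct.K ∧ Nat.card G * 2 ^ ct.e = Nat.card Φ.N * 2 ^ eLa1.n :=
  Φ.base hy eLa1_ok ct hB (by decide +kernel) nm rels chkM chkD

theorem normal : (extN Φ.N eLa1.n y).Normal := extN_normal (Φ.mem_normalizer hy nm)

theorem rz1 : Rz2 ⟨eLa1, 1, 0⟩ G x := all.1.rz2 (by decide +kernel)

end La_1

theorem models_eLa1_1 : Models2 ⟨eLa1, 1, 0⟩ 1 := models2_one La_1.rz1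

end Cfsg.Agent.FS.N.M
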