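import Cfsg.Agent.FS.N.M.F.La
import Cfsg.Agent.FS.N.M.F.Qa

/-!
# Models on `eLa3` (helper44, project FS/N; generated)
-/

set_option autoImplicit false

namespace Cfsg.Agent.FS.N.M

open Cfsg Cfsg.Agent.FS.Real

/-- relations `[[0], [10, 8], [4, 12, 0], [24, 8, 24, 16], [16, 16, 16, 16, 0]]` -/
def eLa3 : PcD := ⟨5, 0x8421004308c0000610000214000000, 0x7b9ac5a928398a418820ffbbcdeb38bdab49ca30398a418820ffbbcdeb38bdab49ca307b9ac5a9285a9287b9ac9ca30bdab4deb38ffbbc18820398a4ef0e60837aad3fece2726b2f68c16a291ee4a06231d8d94d0973e95d6e11b5f9d10f19f7c8552c01, 0x7b9ac5a928398a418820ffbbcdeb38bdab49ca30bdab49ca307b9ac5a928398a418820ffbbcdeb385a9287b9ac9ca30bdab4deb38ffbbc18820398a4ad3fece2726b2f68c16a291ee4a062ef0e60837a31d8d94d0973e95d6e11b5f9d10f19f7c8552c01, 0x11001f0000000000110010, [16]⟩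

theorem eLa3_ok : eLa3.Ok := PcD.ok_spec _ (by decide +kernel)

namespace La_3

open La

/-- the codes of the generators -/
def X : ℕ → ℕ := get 37 0x1002100200804080200084004800200a200c210011001

theorem ex : ∃ x, MA.RX eLa3 X x := Mdl.exists_RX (W := get 1 0) (by decide +kernel)

/-- the generators in the ambient group -/
noncomputable def y := Classical.choose ex

theorem hy : MA.RX eLa3 X y := Classical.choose_spec ex

/-- the group -/
abbrev G : Type := Φ.Gp eLa3 y

/-- the generators -/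
noncomputable abbrev x : ℕ → G := extX Φ.N eLa3.n y

/-- the certificates -/
def ct : Ct where
  lc := [(16, 4, 0x42244114), (4, 12, 0xaa41158a)]
  ec := [(4, 12)]
  lr := [⟨4, 0x565999a5, 0, 2, 3⟩, ⟨28, 0x54899845, 0, 2, 3⟩]
  ls := [(4, 28), (24, 24)]
  g0 := [24, 16, 28]
  K := 0x11111111
  e := 3
  zl := [16]
  o := []
  ln := []
  en := []

theorem nm : Φ.nms X eLa3.n = true := by decide +kernel

theorem rels : MA.rels eLa3 X = true := by decide +kernel

theorem chkM : ct.chkM (Φ.md ts eLa3 y) eLa3 X = true := by decide +kernel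

theorem chkD : ct.chkD eLa3 = true := by decide +kernel

theorem all : Base eLa3 G x ct.K ∧ Nat.card G * 2 ^ ct.e = Nat.card Φ.N * 2 ^ eLa3.n :=
  Φ.base hy eLa3_ok ct hB (by decide +kernel) nm rels chkM chkD

theorem normal : (extN Φ.N eLa3.n y).Normal := extN_normal (Φ.mem_normalizer hy nm)

theorem rz1 : Rz2 ⟨eLa3, 1, 0⟩ G x := all.1.rz2 (by decide +kernel)

theorem rz2 : Rz2 ⟨eLa3, 2, 0⟩ G x := all.1.rz2 (by decide +kernel)

theorem rz3 : Rz2 ⟨eLa3, 3, 0⟩ G x := all.1.rz2 (by decide +kernel)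

end La_3

namespace Qa_0

open Qa

/-- the codes of the generators -/
def X : ℕ → ℕ := get 41 0x40809020202010880240202018080430125402921808060201

theorem ex : ∃ x, MA.RX eLa3 X x := Mdl.exists_RX (W := get 1 0) (by decide +kernel)

/-- the generators in the ambient group -/
noncomputable def y := Classical.choose ex

theorem hy : MA.RX eLa3 X y := Classical.choose_spec ex

/-- the group -/
abbrev G : Type := Φ.Gp eLa3 y

/-- the generators -/
noncomputable abbrev x : ℕ → G := extX Φ.N eLa3.n y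

/-- the certificates -/
def ct : Ct where
  lc := [(16, 4, 0xa4109060), (4, 12, 0x80526024a)]
  ec := [(4, 12)]
  lr := [⟨4, 0x902040a0, 0, 2, 3⟩, ⟨3, 0x404250105, 0, 2, 3⟩]
  ls := [(4, 3), (3, 15), (3, 3), (4, 28), (3, 28)]
  g0 := [31, 24, 16, 28]
  K := 0x99999999
  e := 4
  zl := [16]
  o := []
  ln := []
  en := []

theorem nm : Φ.nms X eLa3.n = true := by decide +kernel

theorem rels : MA.rels eLa3 X = true := by decide +kernel

theorem chkM : ct.chkM (Φ.md ts eLa3 y) eLa3 X = true := by decide +kernel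

theorem chkD : ct.chkD eLa3 = true := by decide +kernel

theorem all : Base eLa3 G x ct.K ∧ Nat.card G * 2 ^ ct.e = Nat.card Φ.N * 2 ^ eLa3.n :=
  Φ.base hy eLa3_ok ct hB (by decide +kernel) nm rels chkM chkD

theorem normal : (extN Φ.N eLa3.n y).Normal := extN_normal (Φ.mem_normalizer hy nm)

theorem rz3 : Rz2 ⟨eLa3, 3, 0⟩ G x := all.1.rz2 (by decide +kernel)

end Qa_0

theorem models_eLa3_1 : Models2 ⟨eLa3, 1, 0⟩ 1 := models2_one La_3.rz1

theorem models_eLa3_2 : Models2 ⟨eLa3, 2, 0⟩ 1 := models2_one La_3.rz2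

end Cfsg.Agent.FS.N.M
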