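import Cfsg.Agent.FS.N.M.F.Lb

/-!
# Models on `eLb1` (helper44, project FS/N; generated)
-/

set_option autoImplicit false

namespace Cfsg.Agent.FS.N.M

open Cfsg Cfsg.Agent.FS.Real

/-- relations `[[2], [2, 0], [20, 4, 16], [8, 8, 24, 0], [48, 16, 16, 48, 32], [32, 32, 32, 32, 32, 0]]` -/
def eLb1 : PcD := ⟨6, 0x20820820020c10430000018208000010114000000002000000002, 0x7de75c6da6585d65544d24503ce34c2ca2481c61440c2040ffef7cefae78df6d74cf2c70beeb6caeaa689e69648e28603ce34c2ca2481c61440c2040ffef7cefae78df6d74cf2c70beeb6caeaa689e69648e28607de75c6da6585d65544d24505d65544d24507de75c6da6589e69648e2860beeb6caeaa68df6d74cf2c70ffef7cefae781c61440c20403ce34c2ca248efae783ce34c0c2040df6d74aeaa68ffef7ccf2c709e69646da658beeb6c8e28605d65542ca2487de75c4d24501c6144f7cffee78efad74df6c70cf2b6cbeea68aea9649e68608e275c7de6586da5545d64504d234c3ce2482ca1441c60400c230f38d61b6999279a541349171f79da2baa9d37db58238a1b2fbade3beb9107185c33cb1f3ffbd20b289517595003081, 0x7de75c6da6585d65544d24503ce34c2ca2481c61440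c2040ffef7cefae78df6d74cf2c70beeb6caeaa689e69648e2860beeb6caeaa689e69648e28607de75c6da6585d65544d24503ce34c2ca2481c61440c2040ffef7cefae78df6d74cf2c705d65544d24507de75c6da6589e69648e2860beeb6caeaa68df6d74cf2c70ffef7cefae781c61440c20403ce34c2ca248aeaa68ffef7ccf2c709e69646da658beeb6c8e28605d65542ca2487de75c4d24501c6144efae783ce34c0c2040df6d74f7cffee78efad74df6c70cf2b6cbeea68aea9649e68608e275c7de6586da5545d64504d234c3ce2482ca1441c60400c238d30f69961b9a592749141379d71faa9a2bdb5d378a1823badb2feb9e3b185107cb1c33fbdf3f28920b595517081003, 0x222200002f2f00000000000000000000222200002f20, [2, 32, 34]⟩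

theorem eLb1_ok : eLb1.Ok := PcD.ok_spec _ (by decide +kernel)

namespace Lb_1

open Lb

/-- the codes of the generators -/
def X : ℕ → ℕ := get 69 0x20000040200000400100000401000008000010080000081000004000018040000148020000020200000220100000101000001

theorem ex : ∃ x, MA.RX eLb1 X x := Mdl.exists_RX (W := get 1 0) (by decide +kernel)

/-- the generators in the ambient group -/
noncomputable def y := Classical.choose ex

theorem hy : MA.RX eLb1 X y := Classical.choose_spec ex

/-- the group -/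
abbrev G : Type := Φ.Gp eLb1 y

/-- the generators -/
noncomputable abbrev x : ℕ → G := extX Φ.N eLb1.n y

/-- the certificates -/
def ct : Ct where
  lc := [(2, 14, 0x9006a51515095a90), (2, 30, 0x660155a5a902a06), (32, 8, 0x5a6999aaaa96665a),
    (8, 12, 0x886221a4a4911288), (34, 10, 0x95a6050909590a95), (10, 26, 0x20600000109000)]
  ec := [(8, 12), (10, 26), (14, 30)]
  lr := [⟨8, 0x506050909090a05, 0, 2, 3⟩,
    ⟨12, 0x510600909209005, 0, 2, 3⟩]
  ls := [(8, 12), (52, 52), (12, 48), (48, 48), (8, 48)]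
  g0 := [56, 48, 32, 60]
  K := 0x1111111111111111
  e := 4
  zl := [32]
  o := []
  ln := []
  en := []

theorem nm : Φ.nms X eLb1.n = true := by decide +kernel

theorem rels : MA.rels eLb1 X = true := by decide +kernel

theorem chkM : ct.chkM (Φ.md ts eLb1 y) eLb1 X = true := by decide +kernel

theorem chkD : ct.chkD eLb1 = true := by decide +kernel

theorem all : Base eLb1 G x ct.K ∧ Nat.card G * 2 ^ ct.e = Nat.card Φ.N * 2 ^ eLb1.n :=
  Φ.base hy eLb1_ok ct hB (by decide +kernel) nm rels chkM chkD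

theorem normal : (extN Φ.N eLb1.n y).Normal := extN_normal (Φ.mem_normalizer hy nm)

theorem rz1 : Rz2 ⟨eLb1, 1, 0⟩ G x := all.1.rz2 (by decide +kernel)

end Lb_1

theorem models_eLb1_1 : Models2 ⟨eLb1, 1, 0⟩ 1 := models2_one Lb_1.rz1

end Cfsg.Agent.FS.N.M
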