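import Cfsg.Agent.FS.N.M.F.Lb

/-!
# Models on `eLb2` (helper44, project FS/N; generated)
-/

set_option autoImplicit false

namespace Cfsg.Agent.FS.N.M

open Cfsg Cfsg.Agent.FS.Real

/-- relations `[[18], [34, 0], [28, 4, 0], [24, 8, 56, 16], [48, 16, 48, 16, 32], [32, 32, 32, 32, 32, 0]]` -/
def eLb2 : PcD := ⟨6, 0x2082082002043043000043821800000011c000000022000000012, 0x7de75c6da6585d65544d24503ce34c2ca2481c61440c2040ffef7cefae78df6d74cf2c70beeb6caeaa689e69648e28603ce34c2ca2481c61440c2040ffef7cefae78df6d74cf2c70beeb6caeaa689e69648e28607de75c6da6585d65544d24501c61440c2040ffef7cefae78df6d74cf2c70beeb6caeaa689e69648e28607de75c6da6585d65544d24503ce34c2ca2482ca2483ce34c4d24505d65546da6587de75c8e28609e6964aeaa68beeb6ccf2c70df6d74efae78ffef7c0c20401c6144f7cffee78efad74df6c70cf2b6cbeea68aea9649e68608e275c7de6586da5545d64504d234c3ce2482ca1441c60400c2527d8560bea9f0f7ad033891937195a1b2b931fbbd403ca1d075a5e2b68972ff8d8130b11179b523ba99b3f39dc23481, 0x7de75c6da6585d65544d24503ce34c2ca2481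c61440c2040ffef7cefae78df6d74cf2c70beeb6caeaa689e69648e2860beeb6caeaa689e69648e28607de75c6da6585d65544d24503ce34c2ca2481c61440c2040ffef7cefae78df6d74cf2c70df6d74cf2c70beeb6caeaa689e69648e28607de75c6da6585d65544d24503ce34c2ca2481c61440c2040ffef7cefae782ca2483ce34c4d24505d65546da6587de75c8e28609e6964aeaa68beeb6ccf2c70df6d74efae78ffef7c0c20401c6144f7cffee78efad74df6c70cf2b6cbeea68aea9649e68608e275c7de6586da5545d64504d234c3ce2482ca1441c60400c21959372b9a1bbbd31fca14035a5d07689e2bf8d72f0b18139b5117a9923b39db3f481c23d85527ea960b7adf0f891033, 0x1200000000000000001f00000000000012000000000000000010, [32]⟩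

theorem eLb2_ok : eLb2.Ok := PcD.ok_spec _ (by decide +kernel)

namespace Lb_2

open Lb

/-- the codes of the generators -/
def X : ℕ → ℕ := get 69 0x20000040200000400100000401000008000800003008000028000080400000408008020000020200000220100006001000010

theorem ex : ∃ x, MA.RX eLb2 X x := Mdl.exists_RX (W := get 1 0) (by decide +kernel)

/-- the generators in the ambient group -/
noncomputable def y := Classical.choose ex

theorem hy : MA.RX eLb2 X y := Classical.choose_spec ex

/-- the group -/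
abbrev G : Type := Φ.Gp eLb2 y

/-- the generators -/
noncomputable abbrev x : ℕ → G := extX Φ.N eLb2.n y

/-- the certificates -/
def ct : Ct where
  lc := [(32, 4, 0x5a6999aaaa96665a), (4, 12, 0x6244a41212885862)]
  ec := [(4, 12)]
  lr := [⟨4, 0x506050909090a05, 0, 2, 3⟩,
    ⟨60, 0x510600909209005, 0, 2, 3⟩]
  ls := [(4, 60), (56, 56), (48, 48)]
  g0 := [56, 48, 32, 60]
  K := 0x1111111111111111
  e := 4
  zl := [32]
  o := []
  ln := []
  en := []

theorem nm : Φ.nms X eLb2.n = true := by decide +kernel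

theorem rels : MA.rels eLb2 X = true := by decide +kernel

theorem chkM : ct.chkM (Φ.md ts eLb2 y) eLb2 X = true := by decide +kernel

theorem chkD : ct.chkD eLb2 = true := by decide +kernel

theorem all : Base eLb2 G x ct.K ∧ Nat.card G * 2 ^ ct.e = Nat.card Φ.N * 2 ^ eLb2.n :=
  Φ.base hy eLb2_ok ct hB (by decide +kernel) nm rels chkM chkD

theorem normal : (extN Φ.N eLb2.n y).Normal := extN_normal (Φ.mem_normalizer hy nm)

theorem rz1 : Rz2 ⟨eLb2, 1, 0⟩ G x := all.1.rz2 (by decide +kernel)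

end Lb_2

theorem models_eLb2_1 : Models2 ⟨eLb2, 1, 0⟩ 1 := models2_one Lb_2.rz1

end Cfsg.Agent.FS.N.M
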