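import Cfsg.Agent.FS.N.M.F.Lb

/-!
# Models on `eLb3` (helper44, project FS/N; generated)
-/

set_option autoImplicit false

namespace Cfsg.Agent.FS.N.M

open Cfsg Cfsg.Agent.FS.Real

/-- relations `[[0], [2, 8], [4, 12, 0], [8, 8, 24, 16], [16, 16, 16, 16, 0]]` -/
def eLb3 : PcD := ⟨5, 0x842100430840000610000204000000, 0x7b9ac5a928398a418820ffbbcdeb38bdab49ca30398a418820ffbbcdeb38bdab49ca307b9ac5a9285a9287b9ac9ca30bdab4deb38ffbbc18820398a4ef0e60837aad3fece2726b2f68c16a291ee4a062f7f9dd6f19b5e9594e1173d8d52d0931c8510c01, 0x7b9ac5a928398a418820ffbbcdeb38bdab49ca30bdab49ca307b9ac5a928398a418820ffbbcdeb385a9287b9ac9ca30bdab4deb38ffbbc18820398a4ad3fece2726b2f68c16a291ee4a062ef0e60837af7f9dd6f19b5e9594e1173d8d52d0931c8510c01, 0x11112222111122ff11112222111122f0, [1, 16, 17]⟩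

theorem eLb3_ok : eLb3.Ok := PcD.ok_spec _ (by decide +kernel)

namespace Lb_3

open Lb

/-- the codes of the generators -/
def X : ℕ → ℕ := get 69 0x1000002010000020008000020080000400000804000004080000200000c0200000a40100000101000001

theorem ex : ∃ x, MA.RX eLb3 X x := Mdl.exists_RX (W := get 1 0) (by decide +kernel)

/-- the generators in the ambient group -/
noncomputable def y := Classical.choose ex

theorem hy : MA.RX eLb3 X y := Classical.choose_spec ex

/-- the group -/
abbrev G : Type := Φ.Gp eLb3 y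

/-- the generators -/
noncomputable abbrev x : ℕ → G := extX Φ.N eLb3.n y

/-- the certificates -/
def ct : Ct where
  lc := [(1, 7, 0x9006a51515095a90), (1, 15, 0x660155a5a902a06), (16, 4, 0x5a6999aaaa96665a),
    (4, 6, 0x886221a4a4911288), (17, 5, 0x95a6050909590a95), (5, 13, 0x20600000109000)]
  ec := [(4, 6), (5, 13), (7, 15)]
  lr := [⟨4, 0x506050909090a05, 0, 2, 3⟩,
    ⟨6, 0x510600909209005, 0, 2, 3⟩]
  ls := [(4, 6), (26, 26), (6, 24), (24, 24), (4, 24)]
  g0 := [28, 24, 16, 30]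
  K := 0x55555555
  e := 4
  zl := [16]
  o := []
  ln := []
  en := []

theorem nm : Φ.nms X eLb3.n = true := by decide +kernel

theorem rels : MA.rels eLb3 X = true := by decide +kernel

theorem chkM : ct.chkM (Φ.md ts eLb3 y) eLb3 X = true := by decide +kernel

theorem chkD : ct.chkD eLb3 = true := by decide +kernel

theorem all : Base eLb3 G x ct.K ∧ Nat.card G * 2 ^ ct.e = Nat.card Φ.N * 2 ^ eLb3.n :=
  Φ.base hy eLb3_ok ct hB (by decide +kernel) nm rels chkM chkD

theorem normal : (extN Φ.N eLb3.n y).Normal := extN_normal (Φ.mem_normalizer hy nm)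

theorem rz1 : Rz2 ⟨eLb3, 1, 0⟩ G x := all.1.rz2 (by decide +kernel)

end Lb_3

theorem models_eLb3_1 : Models2 ⟨eLb3, 1, 0⟩ 1 := models2_one Lb_3.rz1

end Cfsg.Agent.FS.N.M
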