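import Cfsg.Agent.FS.N.M.F.Lb
import Cfsg.Agent.FS.N.M.F.Qb

/-!
# Models on `eLb6` (helper44, project FS/N; generated)
-/

set_option autoImplicit false

namespace Cfsg.Agent.FS.N.M

open Cfsg Cfsg.Agent.FS.Real

/-- relations `[[0], [34, 8], [4, 12, 0], [8, 8, 56, 16], [16, 16, 48, 16, 32], [32, 32, 32, 32, 32, 0]]` -/
def eLb6 : PcD := ⟨6, 0x20820820020430410000438208000000304000000222000000000, 0x7de75c6da6585d65544d24503ce34c2ca2481c61440c2040ffef7cefae78df6d74cf2c70beeb6caeaa689e69648e28603ce34c2ca2481c61440c2040ffef7cefae78df6d74cf2c70beeb6caeaa689e69648e28607de75c6da6585d65544d24501c61440c2040ffef7cefae78df6d74cf2c70beeb6caeaa689e69648e28607de75c6da6585d65544d24503ce34c2ca2482ca2483ce34c4d24505d65546da6587de75c8e28609e6964aeaa68beeb6ccf2c70df6d74efae78ffef7c0c20401c6144f7c1c6040efad74ffee78cf2b6cdf6c70aea964beea688e275c9e68606da5547de6584d234c5d64502ca1443ce2480c279ff3d69be39597d35493c3138fb2d28ba29187925083821fbf71debb619db7515cb3411baf30daab2099a71058a3001, 0x7de75c6da6585d65544d24503ce34c2ca2481c6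1440c2040ffef7cefae78df6d74cf2c70beeb6caeaa689e69648e2860beeb6caeaa689e69648e28607de75c6da6585d65544d24503ce34c2ca2481c61440c2040ffef7cefae78df6d74cf2c70df6d74cf2c70beeb6caeaa689e69648e28607de75c6da6585d65544d24503ce34c2ca2481c61440c2040ffef7cefae782ca2483ce34c4d24505d65546da6587de75c8e28609e6964aeaa68beeb6ccf2c70df6d74efae78ffef7c0c20401c6144d74ffee78cf2b6cdf6c70aea964beea688e275c9e68606da5547de6584d234c5d64502ca1443ce2480c2f7c1c6040efa79ff3d69be39597d35493c3138fb2d28ba29187925083821fbf71debb619db7515cb3411baf30daab2099a71058a3001, 0x11001200110012001100120011001f00110012001100120011001200110010, [32]⟩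

theorem eLb6_ok : eLb6.Ok := PcD.ok_spec _ (by decide +kernel)

namespace Lb_6

open Lb

/-- the codes of the generators -/
def X : ℕ → ℕ := get 69 0x20000040200000400100000401000008000800003008000028000080400000408000020000c00200002040100000101000001

theorem ex : ∃ x, MA.RX eLb6 X x := Mdl.exists_RX (W := get 1 0) (by decide +kernel)

/-- the generators in the ambient group -/
noncomputable def y := Classical.choose ex

theorem hy : MA.RX eLb6 X y := Classical.choose_spec ex

/-- the group -/
abbrev G : Type := Φ.Gp eLb6 y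

/-- the generators -/
noncomputable abbrev x : ℕ → G := extX Φ.N eLb6.n y

/-- the certificates -/
def ct : Ct where
  lc := [(32, 4, 0x5a6999aaaa96665a), (4, 12, 0x6244a41212885862)]
  ec := [(4, 12)]
  lr := [⟨4, 0x506050909090a05, 0, 2, 3⟩,
    ⟨60, 0x510600909209005, 0, 2, 3⟩]
  ls := [(4, 60), (56, 56), (48, 48)]
  g0 := [56, 48, 32, 60]
  K := 0x1111111111111111
  e := 4
  zl := [32]
  o := []
  ln := []
  en := []

theorem nm : Φ.nms X eLb6.n = true := by decide +kernel

theorem rels : MA.rels eLb6 X = true := by decide +kernel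

theorem chkM : ct.chkM (Φ.md ts eLb6 y) eLb6 X = true := by decide +kernel

theorem chkD : ct.chkD eLb6 = true := by decide +kernel

theorem all : Base eLb6 G x ct.K ∧ Nat.card G * 2 ^ ct.e = Nat.card Φ.N * 2 ^ eLb6.n :=
  Φ.base hy eLb6_ok ct hB (by decide +kernel) nm rels chkM chkD

theorem normal : (extN Φ.N eLb6.n y).Normal := extN_normal (Φ.mem_normalizer hy nm)

theorem rz1 : Rz2 ⟨eLb6, 1, 0⟩ G x := all.1.rz2 (by decide +kernel)

theorem rz2 : Rz2 ⟨eLb6, 2, 0⟩ G x := all.1.rz2 (by decide +kernel)

theorem rz3 : Rz2 ⟨eLb6, 3, 0⟩ G x := all.1.rz2 (by decide +kernel)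

end Lb_6

namespace Qb_1

open Qb

/-- the codes of the generators -/
def X : ℕ → ℕ := get 221 0x20000000000080000000000080020000000000080000000000080001000000000000001000004000001000000000000004000001000000080000000000c00c00000800c00080000000000c00800000c00c000100000000000000040000040000100000000000000040000040008008000000000580a00000c80580008000000001100a00000c811004001000000000001000000000001001000000000001000000000001

theorem ex : ∃ x, MA.RX eLb6 X x := Mdl.exists_RX (W := get 1 0) (by decide +kernel)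

/-- the generators in the ambient group -/
noncomputable def y := Classical.choose ex

theorem hy : MA.RX eLb6 X y := Classical.choose_spec ex

/-- the group -/
abbrev G : Type := Φ.Gp eLb6 y

/-- the generators -/
noncomputable abbrev x : ℕ → G := extX Φ.N eLb6.n y

/-- the certificates -/
def ct : Ct where
  lc := [(32, 4, 0x8e28e225141861020b86230b00091180b2a26183222a241084b),
    (4, 12, 0x40000000002c06400005002c0004000000000880640000500880)]
  ec := [(4, 12)]
  lr := [⟨36, 0x62140c28b52352328b64a64a0008cb8cb42166350a60c66350a, 0, 2, 3⟩,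
    ⟨39, 0x10000000008426c20006c3302001000000000302483000482842, 0, 2, 3⟩]
  ls := [(36, 39), (39, 59), (39, 39), (36, 60), (24, 24), (32, 24), (39, 24)]
  g0 := [63, 56, 48, 32, 60]
  K := 0x9999999999999999
  e := 5
  zl := [32]
  o := []
  ln := []
  en := []

theorem nm : Φ.nms X eLb6.n = true := by decide +kernel

theorem rels : MA.rels eLb6 X = true := by decide +kernel

theorem chkM : ct.chkM (Φ.md ts eLb6 y) eLb6 X = true := by decide +kernel

theorem chkD : ct.chkD eLb6 = true := by decide +kernel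

theorem all : Base eLb6 G x ct.K ∧ Nat.card G * 2 ^ ct.e = Nat.card Φ.N * 2 ^ eLb6.n :=
  Φ.base hy eLb6_ok ct hB (by decide +kernel) nm rels chkM chkD

theorem normal : (extN Φ.N eLb6.n y).Normal := extN_normal (Φ.mem_normalizer hy nm)

theorem rz3 : Rz2 ⟨eLb6, 3, 0⟩ G x := all.1.rz2 (by decide +kernel)

end Qb_1

theorem models_eLb6_1 : Models2 ⟨eLb6, 1, 0⟩ 1 := models2_one Lb_6.rz1

theorem models_eLb6_2 : Models2 ⟨eLb6, 2, 0⟩ 1 := models2_one Lb_6.rz2

end Cfsg.Agent.FS.N.M
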