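import Cfsg.Agent.FS.N.M.F.Lc

/-!
# Models on `eLc5` (helper44, project FS/N; generated)
-/

set_option autoImplicit false

namespace Cfsg.Agent.FS.N.M

open Cfsg Cfsg.Agent.FS.Real

/-- relations `[[0], [2, 8], [4, 12, 0], [8, 8, 56, 16], [16, 16, 48, 16, 32], [32, 32, 32, 32, 32, 0]]` -/
def eLc5 : PcD := ⟨6, 0x20820820020430410000438208000000304000000202000000000, 0x7de75c6da6585d65544d24503ce34c2ca2481c61440c2040ffef7cefae78df6d74cf2c70beeb6caeaa689e69648e28603ce34c2ca2481c61440c2040ffef7cefae78df6d74cf2c70beeb6caeaa689e69648e28607de75c6da6585d65544d24501c61440c2040ffef7cefae78df6d74cf2c70beeb6caeaa689e69648e28607de75c6da6585d65544d24503ce34c2ca2482ca2483ce34c4d24505d65546da6587de75c8e28609e6964aeaa68beeb6ccf2c70df6d74efae78ffef7c0c20401c6144f7c1c6040efad74ffee78cf2b6cdf6c70aea964beea688e275c9e68606da5547de6584d234c5d64502ca1443ce2480c2fbff3debbe39db7d35cb3c31bafb2daaba299a79258a382179f71d69b61959751549341138f30d28b209187105083001, 0x7de75c6da6585d65544d24503ce34c2ca2481c61440c2040ffef7cefae78df6d74cf2c70beeb6caeaa689e69648e2860beeb6caeaa689e69648e28607de75c6da6585d65544d24503ce34c2ca2481c61440c2040ffef7cefae78df6d74cf2c70df6d74cf2c70beeb6caeaa689e69648e28607de75c6da6585d65544d24503ce34c2ca2481c61440c2040ffef7cefae782ca2483ce34c4d24505d65546da6587de75c8e28609e6964aeaa68beeb6ccf2c70df6d74efae78ffef7c0c20401c6144d74ffee78cf2b6cdf6c70aea964beea688e275c9e68606da5547de6584d234c5d64502ca1443ce2480c2f7c1c6040efafbff3debbe39db7d35cb3c31bafb2daaba299a79258a382179f71d69b61959751549341138f30d28b209187105083001,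 0x111122221111222211112222111122ff111122221111222211112222111122f0, [1, 32, 33]⟩

theorem eLc5_ok : eLc5.Ok := PcD.ok_spec _ (by decide +kernel)

namespace Lc_5

open Lc

/-- the codes of the generators -/
def X : ℕ → ℕ := get 133 0x200000000000400020000000000040000100000000000400010000000000080000080000000000480008000000000050000000008000400000000000400080000000020000000001400002000000000100800010000000000010001000000000001

theorem ex : ∃ x, MA.RX eLc5 X x := Mdl.exists_RX (W := get 1 0) (by decide +kernel)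

/-- the generators in the ambient group -/
noncomputable def y := Classical.choose ex

theorem hy : MA.RX eLc5 X y := Classical.choose_spec ex

/-- the group -/
abbrev G : Type := Φ.Gp eLc5 y

/-- the generators -/
noncomputable abbrev x : ℕ → G := extX Φ.N eLc5.n y

/-- the certificates -/
def ct : Ct where
  lc := [(1, 7, 0x246a689a15624861486194652a91246a),
    (1, 15, 0x689a189548612a912a91246a8492689a),
    (32, 4, 0x26558a6615a08960896045992a502655),
    (4, 6, 0x45218a46614286528652458992814521),
    (33, 5, 0xaaa499619512a948a94866926a21aaa4),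
    (5, 13, 0x5008000000000000a0040000000)]
  ec := [(4, 6), (5, 13), (7, 15)]
  lr := [⟨4, 0x90009000a00050005000600050009, 0, 2, 3⟩,
    ⟨6, 0x95000040000050005a00008000009, 0, 2, 3⟩]
  ls := [(4, 6), (58, 58), (6, 56), (56, 56), (48, 48), (4, 56)]
  g0 := [60, 56, 48, 32, 62]
  K := 0x5555555555555555
  e := 5
  zl := [32]
  o := []
  ln := []
  en := []

theorem nm : Φ.nms X eLc5.n = true := by decide +kernel

theorem rels : MA.rels eLc5 X = true := by decide +kernel

theorem chkM : ct.chkM (Φ.md ts eLc5 y) eLc5 X = true := by decide +kernel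

theorem chkD : ct.chkD eLc5 = true := by decide +kernel

theorem all : Base eLc5 G x ct.K ∧ Nat.card G * 2 ^ ct.e = Nat.card Φ.N * 2 ^ eLc5.n :=
  Φ.base hy eLc5_ok ct hB (by decide +kernel) nm rels chkM chkD

theorem normal : (extN Φ.N eLc5.n y).Normal := extN_normal (Φ.mem_normalizer hy nm)

theorem rz1 : Rz2 ⟨eLc5, 1, 0⟩ G x := all.1.rz2 (by decide +kernel)

end Lc_5

theorem models_eLc5_1 : Models2 ⟨eLc5, 1, 0⟩ 1 := models2_one Lc_5.rz1

end Cfsg.Agent.FS.N.M
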