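import Cfsg.Agent.FS.N.M.F.S43
import Cfsg.Agent.FS.Real.Tab

/-!
# Models on `dA10` (helper44, project FS/N; generated)
-/

set_option autoImplicit false

namespace Cfsg.Agent.FS.N.M

open Cfsg Cfsg.Agent.FS.Real

namespace S43_0

open S43

/-- the codes of the generators -/
def X : ℕ → ℕ := get 69 0x100801009008010080100480200803004004822882184114412044114210a208a409008610451049208a200208004102080041000812402204218011

theorem ex : ∃ x, MA.RX dA10 X x := Mdl.exists_RX (W := get 1 0) (by decide +kernel)

/-- the generators in the ambient group -/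
noncomputable def y := Classical.choose ex

theorem hy : MA.RX dA10 X y := Classical.choose_spec ex

/-- the group -/
abbrev G : Type := Φ.Gp dA10 y

/-- the generators -/
noncomputable abbrev x : ℕ → G := extX Φ.N dA10.n y

/-- the certificates -/
def ct : Ct where
  lc := [(64, 44, 0x6950905a242865a9), (64, 44, 0), (108, 1, 0x65165586846a161)]
  ec := [(44, 1)]
  lr := [⟨120, 0x4022041040010422, 0, 2, 3⟩,
    ⟨33, 0x4022041040010422, 0, 2, 3⟩,
    ⟨108, 0x695566a5569a9559, 0, 2, 3⟩]
  ls := [(120, 120), (33, 108), (120, 108), (77, 116), (64, 57), (116, 77), (33, 17), (112, 57), (108, 77), (73, 116),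
    (64, 61)]
  g0 := [125, 105, 120, 73, 112, 121]
  K := 0x33333333333333333333333333333333
  e := 6
  zl := [64]
  o := []
  ln := []
  en := []

theorem nm : Φ.nms X dA10.n = true := by decide +kernel

theorem rels : MA.rels dA10 X = true := by decide +kernel

theorem chkM : ct.chkM (Φ.md ts dA10 y) dA10 X = true := by decide +kernel

theorem chkD : ct.chkD dA10 = true := by decide +kernel

theorem all : Base dA10 G x ct.K ∧ Nat.card G * 2 ^ ct.e = Nat.card Φ.N * 2 ^ dA10.n :=
  Φ.base hy dA10_ok ct hB (by decide +kernel) nm rels chkM chkD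

theorem normal : (extN Φ.N dA10.n y).Normal := extN_normal (Φ.mem_normalizer hy nm)

theorem rz2 : Rz2 ⟨dA10, 2, 0⟩ G x := all.1.rz2 (by decide +kernel)

end S43_0

end Cfsg.Agent.FS.N.M
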