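import Cfsg.Agent.FS.N.M.F.Ld
import Cfsg.Agent.FS.Real.TabS

/-!
# Models on `dD128` (helper44, project FS/N; generated)
-/

set_option autoImplicit false

namespace Cfsg.Agent.FS.N.M

open Cfsg Cfsg.Agent.FS.Real

namespace Ld_0

open Ld

/-- the codes of the generators -/
def X : ℕ → ℕ := get 197 0x40000000000000000180000040000000000000000180000002000000000000000030000002000000000000000040000000100000000000000000d000001000000000000000035000000080000000000000000600000080000000000000000580000004000000000000001a0000000400000000000000210000000020000000000006800000000020000000000000360000000000000006000001000000000000000001000006000000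

theorem ex : ∃ x, MA.RX dD128 X x := Mdl.exists_RX (W := get 1 0) (by decide +kernel)

/-- the generators in the ambient group -/
noncomputable def y := Classical.choose ex

theorem hy : MA.RX dD128 X y := Classical.choose_spec ex

/-- the group -/
abbrev G : Type := Φ.Gp dD128 y

/-- the generators -/
noncomputable abbrev x : ℕ → G := extX Φ.N dD128.n y

/-- the certificates -/
def ct : Ct where
  lc := [(64, 1, 0x4a1971d1925d556990cdb783cdb7832e6da2aa96684a1971),
    (1, 5, 0x39b908babb65884d5286578986578945449a7432ad39b908)]
  ec := [(1, 5)]
  lr := [⟨1, 0x1300001400001300002b00002b00002b00002c000013, 0, 2, 3⟩,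
    ⟨125, 0x13c0000002200000002b00002b20000001d000000013, 0, 2, 3⟩]
  ls := [(1, 125), (124, 124), (120, 120), (112, 112), (96, 96)]
  g0 := [124, 120, 112, 96, 64, 125]
  K := 0x33333333333333333333333333333333
  e := 6
  zl := [64]
  o := []
  ln := []
  en := []

theorem nm : Φ.nms X dD128.n = true := by decide +kernel

theorem rels : MA.rels dD128 X = true := by decide +kernel

theorem chkM : ct.chkM (Φ.md ts dD128 y) dD128 X = true := by decide +kernel

theorem chkD : ct.chkD dD128 = true := by decide +kernel

theorem all : Base dD128 G x ct.K ∧ Nat.card G * 2 ^ ct.e = Nat.card Φ.N * 2 ^ dD128.n :=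
  Φ.base hy dD128_ok ct hB (by decide +kernel) nm rels chkM chkD

theorem normal : (extN Φ.N dD128.n y).Normal := extN_normal (Φ.mem_normalizer hy nm)

theorem rz2 : Rz2 ⟨dD128, 2, 0⟩ G x := all.1.rz2 (by decide +kernel)

end Ld_0

theorem models_dD128_2 : Models2 ⟨dD128, 2, 0⟩ 1 := models2_one Ld_0.rz2

end Cfsg.Agent.FS.N.M
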