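import Cfsg.Agent.FS.N.M.F.La
import Cfsg.Agent.FS.Real.Tab

/-!
# Models on `dD16` (helper44, project FS/N; generated)
-/

set_option autoImplicit false

namespace Cfsg.Agent.FS.N.M

open Cfsg Cfsg.Agent.FS.Real

namespace La_0

open La

/-- the codes of the generators -/
def X : ℕ → ℕ := get 37 0x80108010040204010004a00c40002100120

theorem ex : ∃ x, MA.RX dD16 X x := Mdl.exists_RX (W := get 1 0) (by decide +kernel)

/-- the generators in the ambient group -/
noncomputable def y := Classical.choose ex

theorem hy : MA.RX dD16 X y := Classical.choose_spec ex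

/-- the group -/
abbrev G : Type := Φ.Gp dD16 y

/-- the generators -/
noncomputable abbrev x : ℕ → G := extX Φ.N dD16.n y

/-- the certificates -/
def ct : Ct where
  lc := [(8, 1, 0x42244114), (1, 5, 0xaa41158a)]
  ec := [(1, 5)]
  lr := [⟨1, 0x565999a5, 0, 2, 3⟩, ⟨13, 0x54899845, 0, 2, 3⟩]
  ls := [(1, 13), (12, 12)]
  g0 := [12, 8, 13]
  K := 0x3333
  e := 3
  zl := [8]
  o := []
  ln := []
  en := []

theorem nm : Φ.nms X dD16.n = true := by decide +kernel

theorem rels : MA.rels dD16 X = true := by decide +kernel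

theorem chkM : ct.chkM (Φ.md ts dD16 y) dD16 X = true := by decide +kernel

theorem chkD : ct.chkD dD16 = true := by decide +kernel

theorem all : Base dD16 G x ct.K ∧ Nat.card G * 2 ^ ct.e = Nat.card Φ.N * 2 ^ dD16.n :=
  Φ.base hy dD16_ok ct hB (by decide +kernel) nm rels chkM chkD

theorem normal : (extN Φ.N dD16.n y).Normal := extN_normal (Φ.mem_normalizer hy nm)

theorem rz2 : Rz2 ⟨dD16, 2, 0⟩ G x := all.1.rz2 (by decide +kernel)

end La_0

theorem models_dD16_2 : Models2 ⟨dD16, 2, 0⟩ 1 := models2_one La_0.rz2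

end Cfsg.Agent.FS.N.M
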