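import Cfsg.Agent.FS.N.M.F.Le
import Cfsg.Agent.FS.Real.TabS

/-!
# Models on `dD256` (helper44, project FS/N; generated)
-/

set_option autoImplicit false

namespace Cfsg.Agent.FS.N.M

open Cfsg Cfsg.Agent.FS.Real

namespace Le_0

open Le

/-- the codes of the generators -/
def X : ℕ → ℕ := get 165 0x80000000000000f0000080000000000000f0000004000000000000700000040000000000008800000020000000000001b6000020000000000006760000010000000000000ad0000100000000000034d000000800000000000085000008000000000001750000004000000000000ab000004000000000000acc0000020000000001e5000000020000000000518000000000001e000010000000000000010001e00000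

theorem ex : ∃ x, MA.RX dD256 X x := Mdl.exists_RX (W := get 1 0) (by decide +kernel)

/-- the generators in the ambient group -/
noncomputable def y := Classical.choose ex

theorem hy : MA.RX dD256 X y := Classical.choose_spec ex

/-- the group -/
abbrev G : Type := Φ.Gp dD256 y

/-- the generators -/
noncomputable abbrev x : ℕ → G := extX Φ.N dD256.n y

/-- the certificates -/
def ct : Ct where
  lc := [(128, 1, 0x9371cdb2908762ce2a5ee2a5e24d6f789d39371c),
    (1, 5, 0x2c070c2359946f6203da203da3dca66b9092c070)]
  ec := [(1, 5)]
  lr := [⟨1, 0x30f003100030f000ef000ef000ef000f00030f, 0, 2, 3⟩,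
    ⟨253, 0xefc1400474000030f0030f3e800b8800000ef, 0, 2, 3⟩]
  ls := [(1, 253), (252, 252), (248, 248), (240, 240), (224, 224), (192, 192)]
  g0 := [252, 248, 240, 224, 192, 128, 253]
  K := 0x3333333333333333333333333333333333333333333333333333333333333333
  e := 7
  zl := [128]
  o := []
  ln := []
  en := []

theorem nm : Φ.nms X dD256.n = true := by decide +kernel

theorem rels : MA.rels dD256 X = true := by decide +kernel

theorem chkM : ct.chkM (Φ.md ts dD256 y) dD256 X = true := by decide +kernel

theorem chkD : ct.chkD dD256 = true := by decide +kernel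

theorem all : Base dD256 G x ct.K ∧ Nat.card G * 2 ^ ct.e = Nat.card Φ.N * 2 ^ dD256.n :=
  Φ.base hy dD256_ok ct hB (by decide +kernel) nm rels chkM chkD

theorem normal : (extN Φ.N dD256.n y).Normal := extN_normal (Φ.mem_normalizer hy nm)

theorem rz2 : Rz2 ⟨dD256, 2, 0⟩ G x := all.1.rz2 (by decide +kernel)

end Le_0

theorem models_dD256_2 : Models2 ⟨dD256, 2, 0⟩ 1 := models2_one Le_0.rz2

end Cfsg.Agent.FS.N.M
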