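import Cfsg.Agent.FS.N.M.F.Lb
import Cfsg.Agent.FS.Real.Tab

/-!
# Models on `dD32` (helper44, project FS/N; generated)
-/

set_option autoImplicit false

namespace Cfsg.Agent.FS.N.M

open Cfsg Cfsg.Agent.FS.Real

namespace Lb_0

open Lb

/-- the codes of the generators -/
def X : ℕ → ℕ := get 69 0x1000002010000020008000020080000400040000240400002800004c0000020040000002010000010200

theorem ex : ∃ x, MA.RX dD32 X x := Mdl.exists_RX (W := get 1 0) (by decide +kernel)

/-- the generators in the ambient group -/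
noncomputable def y := Classical.choose ex

theorem hy : MA.RX dD32 X y := Classical.choose_spec ex

/-- the group -/
abbrev G : Type := Φ.Gp dD32 y

/-- the generators -/
noncomputable abbrev x : ℕ → G := extX Φ.N dD32.n y

/-- the certificates -/
def ct : Ct where
  lc := [(16, 1, 0x5a6999aaaa96665a), (1, 5, 0x89961aaaaa692589)]
  ec := [(1, 5)]
  lr := [⟨1, 0x506050909090a05, 0, 2, 3⟩,
    ⟨13, 0x510600909209005, 0, 2, 3⟩]
  ls := [(13, 1), (1, 20), (20, 20), (21, 8), (8, 8), (8, 16), (1, 29)]
  g0 := [28, 24, 16, 29]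
  K := 0x33333333
  e := 4
  zl := [16]
  o := []
  ln := []
  en := []

theorem nm : Φ.nms X dD32.n = true := by decide +kernel

theorem rels : MA.rels dD32 X = true := by decide +kernel

theorem chkM : ct.chkM (Φ.md ts dD32 y) dD32 X = true := by decide +kernel

theorem chkD : ct.chkD dD32 = true := by decide +kernel

theorem all : Base dD32 G x ct.K ∧ Nat.card G * 2 ^ ct.e = Nat.card Φ.N * 2 ^ dD32.n :=
  Φ.base hy dD32_ok ct hB (by decide +kernel) nm rels chkM chkD

theorem normal : (extN Φ.N dD32.n y).Normal := extN_normal (Φ.mem_normalizer hy nm)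

theorem rz2 : Rz2 ⟨dD32, 2, 0⟩ G x := all.1.rz2 (by decide +kernel)

end Lb_0

theorem models_dD32_2 : Models2 ⟨dD32, 2, 0⟩ 1 := models2_one Lb_0.rz2

end Cfsg.Agent.FS.N.M
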