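import Cfsg.Agent.FS.N.M.F.Lc
import Cfsg.Agent.FS.Real.TabS

/-!
# Models on `dD64` (helper44, project FS/N; generated)
-/

set_option autoImplicit false

namespace Cfsg.Agent.FS.N.M

open Cfsg Cfsg.Agent.FS.Real

namespace Lc_0

open Lc

/-- the codes of the generators -/
def X : ℕ → ℕ := get 133 0x200000000000400020000000000040000100000000000400010000000000080000080000000000480008000000000050000040000000002800004000000000200000020000000100000002000000001400000000002000100000000000100020000

theorem ex : ∃ x, MA.RX dD64 X x := Mdl.exists_RX (W := get 1 0) (by decide +kernel)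

/-- the generators in the ambient group -/
noncomputable def y := Classical.choose ex

theorem hy : MA.RX dD64 X y := Classical.choose_spec ex

/-- the group -/
abbrev G : Type := Φ.Gp dD64 y

/-- the generators -/
noncomputable abbrev x : ℕ → G := extX Φ.N dD64.n y

/-- the certificates -/
def ct : Ct where
  lc := [(32, 1, 0x26558a6615a08960896045992a502655),
    (1, 5, 0x8a468a12865292819281452149a18a46)]
  ec := [(1, 5)]
  lr := [⟨1, 0x90009000a00050005000600050009, 0, 2, 3⟩,
    ⟨61, 0x95000040000050005a00008000009, 0, 2, 3⟩]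
  ls := [(1, 61), (60, 60), (56, 56), (48, 48)]
  g0 := [60, 56, 48, 32, 61]
  K := 0x3333333333333333
  e := 5
  zl := [32]
  o := []
  ln := []
  en := []

theorem nm : Φ.nms X dD64.n = true := by decide +kernel

theorem rels : MA.rels dD64 X = true := by decide +kernel

theorem chkM : ct.chkM (Φ.md ts dD64 y) dD64 X = true := by decide +kernel

theorem chkD : ct.chkD dD64 = true := by decide +kernel

theorem all : Base dD64 G x ct.K ∧ Nat.card G * 2 ^ ct.e = Nat.card Φ.N * 2 ^ dD64.n :=
  Φ.base hy dD64_ok ct hB (by decide +kernel) nm rels chkM chkD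

theorem normal : (extN Φ.N dD64.n y).Normal := extN_normal (Φ.mem_normalizer hy nm)

theorem rz2 : Rz2 ⟨dD64, 2, 0⟩ G x := all.1.rz2 (by decide +kernel)

end Lc_0

theorem models_dD64_2 : Models2 ⟨dD64, 2, 0⟩ 1 := models2_one Lc_0.rz2

end Cfsg.Agent.FS.N.M
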