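import Cfsg.Agent.FS.N.M.F.Wb
import Cfsg.Agent.FS.Real.Tab

/-!
# Models on `dG27` (helper44, project FS/N; generated)
-/

set_option autoImplicit false

namespace Cfsg.Agent.FS.N.M

open Cfsg Cfsg.Agent.FS.Real

namespace Wb_0

open Wb

/-- the codes of the generators -/
def X : ℕ → ℕ := get 77 0x80010001080010001008000400088000400080200100008200080010080008000240004000209000480029000500030440004000440004000404000020204000020201600010005500010006

theorem ex : ∃ x, MA.RX dG27 X x := Mdl.exists_RX (W := get 1 0) (by decide +kernel)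

/-- the generators in the ambient group -/
noncomputable def y := Classical.choose ex

theorem hy : MA.RX dG27 X y := Classical.choose_spec ex

/-- the group -/
abbrev G : Type := Φ.Gp dG27 y

/-- the generators -/
noncomputable abbrev x : ℕ → G := extX Φ.N dG27.n y

/-- the certificates -/
def ct : Ct where
  lc := [(128, 2, 0xaa048a84099640680), (2, 34, 0x400010008800010004)]
  ec := [(2, 34)]
  lr := [⟨5, 0x20001200002200010, 0, 2, 3⟩,
    ⟨194, 0x10009a095100055069, 0, 2, 3⟩]
  ls := [(194, 5), (194, 171), (5, 5), (240, 171), (133, 251), (194, 194), (251, 5), (194, 162), (240, 238),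
    (194, 190), (240, 162), (5, 171)]
  g0 := [251, 254, 242, 252, 224, 128, 238]
  K := 0x5aa55aa55aa55aa55aa55aa55aa55aa55aa55aa55aa55aa55aa55aa55aa55aa5
  e := 7
  zl := [128]
  o := []
  ln := []
  en := []

theorem nm : Φ.nms X dG27.n = true := by decide +kernel

theorem rels : MA.rels dG27 X = true := by decide +kernel

theorem chkM : ct.chkM (Φ.md ts dG27 y) dG27 X = true := by decide +kernel

theorem chkD : ct.chkD dG27 = true := by decide +kernel

theorem all : Base dG27 G x ct.K ∧ Nat.card G * 2 ^ ct.e = Nat.card Φ.N * 2 ^ dG27.n :=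
  Φ.base hy dG27_ok ct hB (by decide +kernel) nm rels chkM chkD

theorem normal : (extN Φ.N dG27.n y).Normal := extN_normal (Φ.mem_normalizer hy nm)

theorem rz13 : Rz2 ⟨dG27, 13, 0⟩ G x := all.1.rz2 (by decide +kernel)

end Wb_0

theorem models_dG27_13 : Models2 ⟨dG27, 13, 0⟩ 1 := models2_one Wb_0.rz13

end Cfsg.Agent.FS.N.M
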