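import Cfsg.Agent.FS.N.M.F.L34
import Cfsg.Agent.FS.N.M.F.P34
import Cfsg.Agent.FS.Real.Tab

/-!
# Models on `dJ2` (helper44, project FS/N; generated)
-/

set_option autoImplicit false

namespace Cfsg.Agent.FS.N.M

open Cfsg Cfsg.Agent.FS.Real

namespace L34_3

open L34

/-- the codes of the generators -/
def X : ℕ → ℕ := get 41 0x101114044466c880233a32744011d918aa2008aa8c11100444008084a02120404150105

theorem ex : ∃ x, MA.RX dJ2 X x := Mdl.exists_RX (W := get 1 0) (by decide +kernel)

/-- the generators in the ambient group -/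
noncomputable def y := Classical.choose ex

theorem hy : MA.RX dJ2 X y := Classical.choose_spec ex

/-- the group -/
abbrev G : Type := Φ.Gp dJ2 y

/-- the generators -/
noncomputable abbrev x : ℕ → G := extX Φ.N dJ2.n y

/-- the certificates -/
def ct : Ct where
  lc := [(64, 1, 0x3346f880e), (1, 13, 0xaa048cdcb)]
  ec := [(1, 13)]
  lr := [⟨1, 0x114054401, 0, 2, 3⟩, ⟨2, 0x114054401, 0, 2, 3⟩, ⟨77, 0x401150144, 0, 2, 3⟩,
    ⟨103, 0x401150144, 0, 2, 3⟩]
  ls := [(1, 77), (2, 77), (76, 79), (1, 127), (2, 127), (79, 76), (76, 67), (115, 103), (67, 40)]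
  g0 := [107, 115, 67, 125, 126, 127]
  K := 0xf00f0ff00ff0f00ff00f0ff00ff0f00f
  e := 6
  zl := [60, 64, 124]
  o := [(60, 86, 106, 0x401150144), (64, 86, 22, 0x4032501c8), (124, 86, 42, 0x40235018c)]
  ln := [(60, 86, 2), (64, 86, 2), (124, 86, 2)]
  en := [(86, 86)]

theorem nm : Φ.nms X dJ2.n = true := by decide +kernel

theorem rels : MA.rels dJ2 X = true := by decide +kernel

theorem chkM : ct.chkM (Φ.md ts dJ2 y) dJ2 X = true := by decide +kernel

theorem chkD : ct.chkD dJ2 = true := by decide +kernel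

theorem all : Base dJ2 G x ct.K ∧ Nat.card G * 2 ^ ct.e = Nat.card Φ.N * 2 ^ dJ2.n :=
  Φ.base hy dJ2_ok ct hB (by decide +kernel) nm rels chkM chkD

theorem normal : (extN Φ.N dJ2.n y).Normal := extN_normal (Φ.mem_normalizer hy nm)

theorem lam60 : lamOk dJ2 60 ct.K = true := by decide +kernel

end L34_3

namespace P34_3

open P34

/-- the codes of the generators -/
def X : ℕ → ℕ := get 41 0x101114044466c880233a32744011d918aa2008aa8c11100444008084a02120404150105

theorem ex : ∃ x, MA.RX dJ2 X x := Mdl.exists_RX (W := get 1 0) (by decide +kernel)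

/-- the generators in the ambient group -/
noncomputable def y := Classical.choose ex

theorem hy : MA.RX dJ2 X y := Classical.choose_spec ex

/-- the group -/
abbrev G : Type := Φ.Gp dJ2 y

/-- the generators -/
noncomputable abbrev x : ℕ → G := extX Φ.N dJ2.n y

/-- the certificates -/
def ct : Ct where
  lc := [(64, 1, 0x214fb4c0b), (1, 13, 0x150444545)]
  ec := [(1, 13)]
  lr := [⟨1, 0x114054401, 0, 2, 3⟩, ⟨2, 0x114054401, 0, 2, 3⟩, ⟨77, 0x401150144, 0, 2, 3⟩,
    ⟨103, 0x401150144, 0, 2, 3⟩]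
  ls := [(1, 77), (2, 77), (76, 79), (1, 127), (2, 127), (79, 76), (76, 67), (115, 103), (67, 40)]
  g0 := [107, 115, 67, 125, 126, 127]
  K := 0xf00f0ff00ff0f00ff00f0ff00ff0f00f
  e := 6
  zl := [60, 64, 124]
  o := [(60, 86, 106, 0x401150144), (64, 86, 22, 0x4032501c8), (124, 86, 42, 0x40235018c)]
  ln := [(60, 86, 2), (64, 86, 2), (124, 86, 2)]
  en := [(86, 86)]

theorem nm : Φ.nms X dJ2.n = true := by decide +kernel

theorem rels : MA.rels dJ2 X = true := by decide +kernel

theorem chkM : ct.chkM (Φ.md ts dJ2 y) dJ2 X = true := by decide +kernel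

theorem chkD : ct.chkD dJ2 = true := by decide +kernel

theorem all : Base dJ2 G x ct.K ∧ Nat.card G * 2 ^ ct.e = Nat.card Φ.N * 2 ^ dJ2.n :=
  Φ.base hy dJ2_ok ct hB (by decide +kernel) nm rels chkM chkD

theorem normal : (extN Φ.N dJ2.n y).Normal := extN_normal (Φ.mem_normalizer hy nm)

theorem lam60 : lamOk dJ2 60 ct.K = true := by decide +kernel

theorem pos : Pos dJ2 x 3 0x20301 0x201 0x201 64 :=
  (rx_ext (Φ.okN_spec ts) hy).pos 0x40c050201 0 0x40c050201 0 (by decide +kernel)

theorem orb : dJ2.orb 3 0x20301 0x201 0x201 = true := by decide +kernel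

end P34_3

end Cfsg.Agent.FS.N.M
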