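import Cfsg.Agent.FS.N.M.F.S49
import Cfsg.Agent.FS.N.Sp.L47

/-!
# Models on `dL47` (helper44, project FS/N; generated)
-/

set_option autoImplicit false

namespace Cfsg.Agent.FS.N.M

open Cfsg Cfsg.Agent.FS.Real

open Cfsg.Agent.FS.N.Sp (dL47 dL47_ok)

namespace S49_0

open S49

/-- the codes of the generators -/
def X : ℕ → ℕ := get 133 0x10000200001000021000020000100002008000100001000008800010000100000804000200000400010400010000040002002000080000800002200010000100000200020000a1000060000100005200009000000080100500280000030048010008000000800004400008000040000880000400002002000000200200200200000020020000200400100000080010080020000004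

theorem ex : ∃ x, MA.RX dL47 X x := Mdl.exists_RX (W := get 1 0) (by decide +kernel)

/-- the generators in the ambient group -/
noncomputable def y := Classical.choose ex

theorem hy : MA.RX dL47 X y := Classical.choose_spec ex

/-- the group -/
abbrev G : Type := Φ.Gp dL47 y

/-- the generators -/
noncomputable abbrev x : ℕ → G := extX Φ.N dL47.n y

/-- the certificates -/
def ct : Ct where
  lc := [(256, 2, 0x44114896445500485426582980448048),
    (2, 34, 0x1006000000100500500100000060010)]
  ec := [(2, 34)]
  lr := [⟨325, 0x10000506001005091000090900100a05, 0, 2, 3⟩,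
    ⟨81, 0x10000504001008091000090800100405, 0, 2, 3⟩,
    ⟨258, 0x12221121111212111111211222112121, 0, 2, 3⟩]
  ls := [(258, 325), (81, 325), (451, 340), (407, 407), (81, 228), (81, 407), (407, 294), (81, 258), (294, 294),
    (258, 128), (81, 501), (294, 228), (451, 499), (451, 52), (450, 52)]
  g0 := [502, 503, 450, 484, 386, 499, 465, 501]
  K := 0xff00ff00ff00ff00ff00ff00ff00ff00ff00ff00ff00ff00ff00ff00ff00ff00ff00ff00ff00ff00ff00ff00ff00ff00ff00ff00ff00ff00ff00ff00ff00ff
  e := 8
  zl := [256]
  o := []
  ln := []
  en := []

theorem nm : Φ.nms X dL47.n = true := by decide +kernel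

theorem rels : MA.rels dL47 X = true := by decide +kernel

theorem chkM : ct.chkM (Φ.md ts dL47 y) dL47 X = true := by decide +kernel

theorem chkD : ct.chkD dL47 = true := by decide +kernel

theorem all : Base dL47 G x ct.K ∧ Nat.card G * 2 ^ ct.e = Nat.card Φ.N * 2 ^ dL47.n :=
  Φ.base hy dL47_ok ct hB (by decide +kernel) nm rels chkM chkD

theorem normal : (extN Φ.N dL47.n y).Normal := extN_normal (Φ.mem_normalizer hy nm)

theorem rz8 : Rz2 ⟨dL47, 8, 0⟩ G x := all.1.rz2 (by decide +kernel)

end S49_0

theorem models_dL47_8 : Models2 ⟨dL47, 8, 0⟩ 1 := models2_one S49_0.rz8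

end Cfsg.Agent.FS.N.M
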