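import Cfsg.Agent.FS.N.M.F.L34
import Cfsg.Agent.FS.N.M.F.L45
import Cfsg.Agent.FS.N.M.F.P34
import Cfsg.Agent.FS.Real.Tab

/-!
# Models on `dLy` (helper44, project FS/N; generated)
-/

set_option autoImplicit false

namespace Cfsg.Agent.FS.N.M

open Cfsg Cfsg.Agent.FS.Real

namespace L45_3

open L45

/-- the codes of the generators -/
def X : ℕ → ℕ := get 101 0x100020010002100020010002020001000200120001000200100400080020006400080030004004020000402004020000402001000800008041000800008040180040002000d00040002000824001000020104001800020100008001200040008001200040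

theorem ex : ∃ x, MA.RX dLy X x := Mdl.exists_RX (W := get 1 0) (by decide +kernel)

/-- the generators in the ambient group -/
noncomputable def y := Classical.choose ex

theorem hy : MA.RX dLy X y := Classical.choose_spec ex

/-- the group -/
abbrev G : Type := Φ.Gp dLy y

/-- the generators -/
noncomputable abbrev x : ℕ → G := extX Φ.N dLy.n y

/-- the certificates -/
def ct : Ct where
  lc := [(128, 1, 0xc28ca1046186812104c1810),
    (1, 8, 0x61011840310226449286424c)]
  ec := [(1, 8)]
  lr := [⟨1, 0x84000c00010c0010200001, 0, 2, 3⟩,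
    ⟨72, 0x20004001c019200040009013, 0, 2, 3⟩,
    ⟨101, 0x200018001080200003080008, 0, 2, 3⟩]
  ls := [(72, 1), (101, 1), (72, 101), (164, 29), (153, 57), (72, 29), (101, 153), (164, 60), (216, 101), (229, 60),
    (164, 25), (229, 29), (1, 253)]
  g0 := [252, 248, 253, 205, 216, 229, 240]
  K := 0x3333333333333333333333333333333333333333333333333333333333333333
  e := 7
  zl := [128]
  o := []
  ln := []
  en := []

theorem nm : Φ.nms X dLy.n = true := by decide +kernel

theorem rels : MA.rels dLy X = true := by decide +kernel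

theorem chkM : ct.chkM (Φ.md ts dLy y) dLy X = true := by decide +kernel

theorem chkD : ct.chkD dLy = true := by decide +kernel

theorem all : Base dLy G x ct.K ∧ Nat.card G * 2 ^ ct.e = Nat.card Φ.N * 2 ^ dLy.n :=
  Φ.base hy dLy_ok ct hB (by decide +kernel) nm rels chkM chkD

theorem normal : (extN Φ.N dLy.n y).Normal := extN_normal (Φ.mem_normalizer hy nm)

theorem rz2 : Rz2 ⟨dLy, 2, 0⟩ G x := all.1.rz2 (by decide +kernel)

end L45_3

namespace L34_4

open L34

/-- the codes of the generators -/
def X : ℕ → ℕ := get 41 0x202228088810121404840829aa0a4a0404d501351202028080810d2d4343460888022200404250109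

theorem ex : ∃ x, MA.RX dLy X x := Mdl.exists_RX (W := get 1 0) (by decide +kernel)

/-- the generators in the ambient group -/
noncomputable def y := Classical.choose ex

theorem hy : MA.RX dLy X y := Classical.choose_spec ex

/-- the group -/
abbrev G : Type := Φ.Gp dLy y

/-- the generators -/
noncomputable abbrev x : ℕ → G := extX Φ.N dLy.n y

/-- the certificates -/
def ct : Ct where
  lc := [(128, 1, 0x314da482b), (1, 21, 0x190dc4d9d)]
  ec := [(1, 21)]
  lr := [⟨208, 0x114054401, 0, 2, 3⟩, ⟨1, 0x114054401, 0, 2, 3⟩, ⟨48, 0x401150144, 0, 2, 3⟩,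
    ⟨101, 0x401150144, 0, 2, 3⟩]
  ls := [(1, 48), (208, 1), (49, 209), (208, 32), (32, 101), (32, 133), (229, 48), (101, 213), (208, 229), (1, 245)]
  g0 := [244, 245, 176, 213, 229, 240]
  K := 0x33003300330033003300330033003300330033003300330033003300330033
  e := 6
  zl := [64, 128, 192]
  o := [(64, 101, 37, 0x401150144), (128, 101, 229, 0x40235018c), (192, 101, 165, 0x4032501c8)]
  ln := [(64, 101, 2), (128, 101, 2), (192, 101, 2)]
  en := [(101, 101)]

theorem nm : Φ.nms X dLy.n = true := by decide +kernel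

theorem rels : MA.rels dLy X = true := by decide +kernel

theorem chkM : ct.chkM (Φ.md ts dLy y) dLy X = true := by decide +kernel

theorem chkD : ct.chkD dLy = true := by decide +kernel

theorem all : Base dLy G x ct.K ∧ Nat.card G * 2 ^ ct.e = Nat.card Φ.N * 2 ^ dLy.n :=
  Φ.base hy dLy_ok ct hB (by decide +kernel) nm rels chkM chkD

theorem normal : (extN Φ.N dLy.n y).Normal := extN_normal (Φ.mem_normalizer hy nm)

theorem rz2 : Rz2 ⟨dLy, 2, 0⟩ G x := all.1.rz2 (by decide +kernel)

theorem rz8 : Rz2 ⟨dLy, 8, 0⟩ G x := all.1.rz2 (by decide +kernel)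

theorem rz10 : Rz2 ⟨dLy, 10, 0⟩ G x := all.1.rz2 (by decide +kernel)

end L34_4

namespace P34_4

open P34

/-- the codes of the generators -/
def X : ℕ → ℕ := get 41 0x202228088810121404840829aa0a4a0404d501351202028080810d2d4343460888022200404250109

theorem ex : ∃ x, MA.RX dLy X x := Mdl.exists_RX (W := get 1 0) (by decide +kernel)

/-- the generators in the ambient group -/
noncomputable def y := Classical.choose ex

theorem hy : MA.RX dLy X y := Classical.choose_spec ex

/-- the group -/
abbrev G : Type := Φ.Gp dLy y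

/-- the generators -/
noncomputable abbrev x : ℕ → G := extX Φ.N dLy.n y

/-- the certificates -/
def ct : Ct where
  lc := [(128, 1, 0x214674c25), (1, 21, 0x760d0c25b)]
  ec := [(1, 21)]
  lr := [⟨208, 0x114054401, 0, 2, 3⟩, ⟨1, 0x114054401, 0, 2, 3⟩, ⟨48, 0x401150144, 0, 2, 3⟩,
    ⟨101, 0x401150144, 0, 2, 3⟩]
  ls := [(1, 48), (208, 1), (49, 209), (208, 32), (32, 101), (32, 133), (229, 48), (101, 213), (208, 229), (1, 245)]
  g0 := [244, 245, 176, 213, 229, 240]
  K := 0x33003300330033003300330033003300330033003300330033003300330033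
  e := 6
  zl := [64, 128, 192]
  o := [(64, 101, 37, 0x401150144), (128, 101, 229, 0x40235018c), (192, 101, 165, 0x4032501c8)]
  ln := [(64, 101, 2), (128, 101, 2), (192, 101, 2)]
  en := [(101, 101)]

theorem nm : Φ.nms X dLy.n = true := by decide +kernel

theorem rels : MA.rels dLy X = true := by decide +kernel

theorem chkM : ct.chkM (Φ.md ts dLy y) dLy X = true := by decide +kernel

theorem chkD : ct.chkD dLy = true := by decide +kernel

theorem all : Base dLy G x ct.K ∧ Nat.card G * 2 ^ ct.e = Nat.card Φ.N * 2 ^ dLy.n :=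
  Φ.base hy dLy_ok ct hB (by decide +kernel) nm rels chkM chkD

theorem normal : (extN Φ.N dLy.n y).Normal := extN_normal (Φ.mem_normalizer hy nm)

theorem rz2 : Rz2 ⟨dLy, 2, 0⟩ G x := all.1.rz2 (by decide +kernel)

theorem rz8 : Rz2 ⟨dLy, 8, 0⟩ G x := all.1.rz2 (by decide +kernel)

theorem rz10 : Rz2 ⟨dLy, 10, 0⟩ G x := all.1.rz2 (by decide +kernel)

theorem pos : Pos dLy x 3 0xd1d001 0x201 0x201 128 :=
  (rx_ext (Φ.okN_spec ts) hy).pos 0x40c050201 0 0x40c050201 0 (by decide +kernel)

theorem orb : dLy.orb 3 0xd1d001 0x201 0x201 = true := by decide +kernel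

end P34_4

end Cfsg.Agent.FS.N.M
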