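import Cfsg.Agent.FS.N.M.F.Wa
import Cfsg.Agent.FS.Real.Tab

/-!
# Models on `dM12` (helper44, project FS/N; generated)
-/

set_option autoImplicit false

namespace Cfsg.Agent.FS.N.M

open Cfsg Cfsg.Agent.FS.Real

namespace Wa_0

open Wa

/-- the codes of the generators -/
def X : ℕ → ℕ := get 59 0x401001080200202002000c0040010900200320060041800200900040101000082200010405000801b001002

theorem ex : ∃ x, MA.RX dM12 X x := Mdl.exists_RX (W := get 1 0) (by decide +kernel)

/-- the generators in the ambient group -/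
noncomputable def y := Classical.choose ex

theorem hy : MA.RX dM12 X y := Classical.choose_spec ex

/-- the group -/
abbrev G : Type := Φ.Gp dM12 y

/-- the generators -/
noncomputable abbrev x : ℕ → G := extX Φ.N dM12.n y

/-- the certificates -/
def ct : Ct where
  lc := [(32, 2, 0x245a4000e1523), (2, 16, 0x10a164b84801b)]
  ec := [(2, 16)]
  lr := [⟨53, 0x240040200240, 0, 2, 3⟩, ⟨18, 0x801c0c9001213, 0, 2, 3⟩]
  ls := [(18, 53), (59, 59), (18, 44), (44, 44), (62, 59), (53, 57), (32, 18)]
  g0 := [59, 50, 60, 32, 62]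
  K := 0x5aa55aa55aa55aa5
  e := 5
  zl := [32]
  o := []
  ln := []
  en := []

theorem nm : Φ.nms X dM12.n = true := by decide +kernel

theorem rels : MA.rels dM12 X = true := by decide +kernel

theorem chkM : ct.chkM (Φ.md ts dM12 y) dM12 X = true := by decide +kernel

theorem chkD : ct.chkD dM12 = true := by decide +kernel

theorem all : Base dM12 G x ct.K ∧ Nat.card G * 2 ^ ct.e = Nat.card Φ.N * 2 ^ dM12.n :=
  Φ.base hy dM12_ok ct hB (by decide +kernel) nm rels chkM chkD

theorem normal : (extN Φ.N dM12.n y).Normal := extN_normal (Φ.mem_normalizer hy nm)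

theorem rz13 : Rz2 ⟨dM12, 13, 0⟩ G x := all.1.rz2 (by decide +kernel)

end Wa_0

theorem models_dM12_13 : Models2 ⟨dM12, 13, 0⟩ 1 := models2_one Wa_0.rz13

end Cfsg.Agent.FS.N.M
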