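import Cfsg.Agent.FS.N.M.F.L34
import Cfsg.Agent.FS.N.M.F.P34
import Cfsg.Agent.FS.Real.Tab

/-!
# Models on `dM22` (helper44, project FS/N; generated)
-/

set_option autoImplicit false

namespace Cfsg.Agent.FS.N.M

open Cfsg Cfsg.Agent.FS.Real

namespace L34_1

open L34

/-- the codes of the generators -/
def X : ℕ → ℕ := get 41 0x101114044408090a02420404150105020a628298890101404040808ea023a0424050901

theorem ex : ∃ x, MA.RX dM22 X x := Mdl.exists_RX (W := get 1 0) (by decide +kernel)

/-- the generators in the ambient group -/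
noncomputable def y := Classical.choose ex

theorem hy : MA.RX dM22 X y := Classical.choose_spec ex

/-- the group -/
abbrev G : Type := Φ.Gp dM22 y

/-- the generators -/
noncomputable abbrev x : ℕ → G := extX Φ.N dM22.n y

/-- the certificates -/
def ct : Ct where
  lc := [(64, 1, 0xc31a607d4), (1, 2, 0xe3d5124c7)]
  ec := [(1, 2)]
  lr := [⟨16, 0x114054401, 0, 2, 3⟩, ⟨82, 0x114054401, 0, 2, 3⟩, ⟨104, 0x401150144, 0, 2, 3⟩,
    ⟨1, 0x401150144, 0, 2, 3⟩]
  ls := [(82, 104), (104, 122), (16, 122), (122, 42), (16, 114), (1, 122)]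
  g0 := [122, 123, 82, 98, 112, 114]
  K := 0xf0f0f0f0f0f0f0f0f0f0f0f0f0f0f0f
  e := 6
  zl := [32, 64, 96]
  o := [(32, 1, 33, 0x401150144), (64, 1, 65, 0x40235018c), (96, 1, 97, 0x4032501c8)]
  ln := [(32, 1, 2), (64, 1, 2), (96, 1, 2)]
  en := [(1, 1)]

theorem nm : Φ.nms X dM22.n = true := by decide +kernel

theorem rels : MA.rels dM22 X = true := by decide +kernel

theorem chkM : ct.chkM (Φ.md ts dM22 y) dM22 X = true := by decide +kernel

theorem chkD : ct.chkD dM22 = true := by decide +kernel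

theorem all : Base dM22 G x ct.K ∧ Nat.card G * 2 ^ ct.e = Nat.card Φ.N * 2 ^ dM22.n :=
  Φ.base hy dM22_ok ct hB (by decide +kernel) nm rels chkM chkD

theorem normal : (extN Φ.N dM22.n y).Normal := extN_normal (Φ.mem_normalizer hy nm)

theorem lam4 : lamOk dM22 4 ct.K = true := by decide +kernel

end L34_1

namespace P34_1

open P34

/-- the codes of the generators -/
def X : ℕ → ℕ := get 41 0x101114044408090a02420404150105020a628298890101404040808ea023a0424050901

theorem ex : ∃ x, MA.RX dM22 X x := Mdl.exists_RX (W := get 1 0) (by decide +kernel)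

/-- the generators in the ambient group -/
noncomputable def y := Classical.choose ex

theorem hy : MA.RX dM22 X y := Classical.choose_spec ex

/-- the group -/
abbrev G : Type := Φ.Gp dM22 y

/-- the generators -/
noncomputable abbrev x : ℕ → G := extX Φ.N dM22.n y

/-- the certificates -/
def ct : Ct where
  lc := [(64, 1, 0xc326a0bfc), (1, 2, 0xe1d633864)]
  ec := [(1, 2)]
  lr := [⟨16, 0x114054401, 0, 2, 3⟩, ⟨82, 0x114054401, 0, 2, 3⟩, ⟨104, 0x401150144, 0, 2, 3⟩,
    ⟨1, 0x401150144, 0, 2, 3⟩]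
  ls := [(82, 104), (104, 122), (16, 122), (122, 42), (16, 114), (1, 122)]
  g0 := [122, 123, 82, 98, 112, 114]
  K := 0xf0f0f0f0f0f0f0f0f0f0f0f0f0f0f0f
  e := 6
  zl := [32, 64, 96]
  o := [(32, 1, 33, 0x401150144), (64, 1, 65, 0x40235018c), (96, 1, 97, 0x4032501c8)]
  ln := [(32, 1, 2), (64, 1, 2), (96, 1, 2)]
  en := [(1, 1)]

theorem nm : Φ.nms X dM22.n = true := by decide +kernel

theorem rels : MA.rels dM22 X = true := by decide +kernel

theorem chkM : ct.chkM (Φ.md ts dM22 y) dM22 X = true := by decide +kernel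

theorem chkD : ct.chkD dM22 = true := by decide +kernel

theorem all : Base dM22 G x ct.K ∧ Nat.card G * 2 ^ ct.e = Nat.card Φ.N * 2 ^ dM22.n :=
  Φ.base hy dM22_ok ct hB (by decide +kernel) nm rels chkM chkD

theorem normal : (extN Φ.N dM22.n y).Normal := extN_normal (Φ.mem_normalizer hy nm)

theorem lam4 : lamOk dM22 4 ct.K = true := by decide +kernel

theorem pos : Pos dM22 x 3 0x686901 0x201 0x201 64 :=
  (rx_ext (Φ.okN_spec ts) hy).pos 0x40c050201 0 0x40c050201 0 (by decide +kernel)

theorem orb : dM22.orb 3 0x686901 0x201 0x201 = true := by decide +kernel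

end P34_1

end Cfsg.Agent.FS.N.M
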