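import Cfsg.Agent.FS.N.M.F.L45
import Cfsg.Agent.FS.N.Sq.M22

/-!
# Models on `dM222` (helper44, project FS/N; generated)
-/

set_option autoImplicit false

namespace Cfsg.Agent.FS.N.M

open Cfsg Cfsg.Agent.FS.Real

open Cfsg.Agent.FS.N.Sq (dM222 dM222_ok)

namespace L45_2

open L45

/-- the codes of the generators -/
def X : ℕ → ℕ := get 101 0x100020010002100020010002008004000200108004000200100180c00008010100800002040010020000400804080000102000040011000600040011000600020180002001020180002001000100024000800100024000801100200004008040800001020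

theorem ex : ∃ x, MA.RX dM222 X x := Mdl.exists_RX (W := get 1 0) (by decide +kernel)

/-- the generators in the ambient group -/
noncomputable def y := Classical.choose ex

theorem hy : MA.RX dM222 X y := Classical.choose_spec ex

/-- the group -/
abbrev G : Type := Φ.Gp dM222 y

/-- the generators -/
noncomputable abbrev x : ℕ → G := extX Φ.N dM222.n y

/-- the certificates -/
def ct : Ct where
  lc := [(128, 2, 0xc28ca1046186812104c1810),
    (2, 4, 0x40462010106086449349249b)]
  ec := [(2, 4)]
  lr := [⟨2, 0x84000c00010c0010200001, 0, 2, 3⟩,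
    ⟨100, 0x20004001c019200040009013, 0, 2, 3⟩,
    ⟨8, 0x200018001080200003080008, 0, 2, 3⟩]
  ls := [(2, 8), (8, 10), (2, 100), (8, 100), (102, 76), (66, 170), (8, 232), (170, 2), (224, 40), (2, 170),
    (102, 170), (224, 28), (100, 252), (224, 152), (2, 252)]
  g0 := [254, 248, 252, 168, 200, 224, 232]
  K := 0x5555555555555555555555555555555555555555555555555555555555555555
  e := 7
  zl := [128]
  o := []
  ln := []
  en := []

theorem nm : Φ.nms X dM222.n = true := by decide +kernel

theorem rels : MA.rels dM222 X = true := by decide +kernel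

theorem chkM : ct.chkM (Φ.md ts dM222 y) dM222 X = true := by decide +kernel

theorem chkD : ct.chkD dM222 = true := by decide +kernel

theorem all : Base dM222 G x ct.K ∧ Nat.card G * 2 ^ ct.e = Nat.card Φ.N * 2 ^ dM222.n :=
  Φ.base hy dM222_ok ct hB (by decide +kernel) nm rels chkM chkD

theorem normal : (extN Φ.N dM222.n y).Normal := extN_normal (Φ.mem_normalizer hy nm)

theorem rz1 : Rz2 ⟨dM222, 1, 0⟩ G x := all.1.rz2 (by decide +kernel)

theorem pos : Pos dM222 x 9 0x24d4d0c0a060349004 0x50802070600040301 0x30108000706050402 128 :=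
  (rx_ext (Φ.okN_spec ts) hy).pos 0x20004001c019200040009013 0 0x7006400080012404c0008001 0 (by decide +kernel)

theorem orb : dM222.orb 9 0x24d4d0c0a060349004 0x50802070600040301 0x30108000706050402 = true := by decide +kernel

end L45_2

end Cfsg.Agent.FS.N.M
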