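import Cfsg.Agent.FS.N.M.F.Ld
import Cfsg.Agent.FS.Real.TabS

/-!
# Models on `dQ128` (helper44, project FS/N; generated)
-/

set_option autoImplicit false

namespace Cfsg.Agent.FS.N.M

open Cfsg Cfsg.Agent.FS.Real

namespace Ld_6

open Ld

/-- the codes of the generators -/
def X : ℕ → ℕ := get 197 0x40000000000000000180000040000000000000000180000002000000000000000030000002000000000000000040000000100000000000000000d000001000000000000000035000000080000000000000000600000080000000000000000580000004000000000000002500000004000000000000001e0100000020000000000006800000000020000000000000360000000000000006000001000000000000000001000006000000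

theorem ex : ∃ x, MA.RX dQ128 X x := Mdl.exists_RX (W := get 1 0) (by decide +kernel)

/-- the generators in the ambient group -/
noncomputable def y := Classical.choose ex

theorem hy : MA.RX dQ128 X y := Classical.choose_spec ex

/-- the group -/
abbrev G : Type := Φ.Gp dQ128 y

/-- the generators -/
noncomputable abbrev x : ℕ → G := extX Φ.N dQ128.n y

/-- the certificates -/
def ct : Ct where
  lc := [(64, 1, 0x4a1971d1925d556990cdb783cdb7832e6da2aa96684a1971),
    (1, 5, 0x95e80c0e2131251b93905a9d905a9d11d0cedae46c95e80c)]
  ec := [(1, 5)]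
  lr := [⟨1, 0x1300001400001300002b00002b00002b00002c000013, 0, 2, 3⟩,
    ⟨61, 0x13c0000002200000002b00002b20000001d000000013, 0, 2, 3⟩]
  ls := [(61, 1), (1, 68), (68, 68), (69, 8), (8, 8), (77, 16), (16, 16), (93, 32), (32, 32), (32, 64), (96, 16),
    (69, 61), (1, 125)]
  g0 := [124, 120, 112, 96, 64, 125]
  K := 0x33333333333333333333333333333333
  e := 6
  zl := [64]
  o := []
  ln := []
  en := []

theorem nm : Φ.nms X dQ128.n = true := by decide +kernel

theorem rels : MA.rels dQ128 X = true := by decide +kernel

theorem chkM : ct.chkM (Φ.md ts dQ128 y) dQ128 X = true := by decide +kernel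

theorem chkD : ct.chkD dQ128 = true := by decide +kernel

theorem all : Base dQ128 G x ct.K ∧ Nat.card G * 2 ^ ct.e = Nat.card Φ.N * 2 ^ dQ128.n :=
  Φ.base hy dQ128_ok ct hB (by decide +kernel) nm rels chkM chkD

theorem normal : (extN Φ.N dQ128.n y).Normal := extN_normal (Φ.mem_normalizer hy nm)

theorem rz2 : Rz2 ⟨dQ128, 2, 0⟩ G x := all.1.rz2 (by decide +kernel)

end Ld_6

theorem models_dQ128_2 : Models2 ⟨dQ128, 2, 0⟩ 1 := models2_one Ld_6.rz2

end Cfsg.Agent.FS.N.M
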