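import Cfsg.Agent.FS.N.M.F.Lb
import Cfsg.Agent.FS.Real.Tab

/-!
# Models on `dQ32` (helper44, project FS/N; generated)
-/

set_option autoImplicit false

namespace Cfsg.Agent.FS.N.M

open Cfsg Cfsg.Agent.FS.Real

namespace Lb_4

open Lb

/-- the codes of the generators -/
def X : ℕ → ℕ := get 69 0x100000201000002000800002008000040004000018040000140000402000002040040090010000012000

theorem ex : ∃ x, MA.RX dQ32 X x := Mdl.exists_RX (W := get 1 0) (by decide +kernel)

/-- the generators in the ambient group -/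
noncomputable def y := Classical.choose ex

theorem hy : MA.RX dQ32 X y := Classical.choose_spec ex

/-- the group -/
abbrev G : Type := Φ.Gp dQ32 y

/-- the generators -/
noncomputable abbrev x : ℕ → G := extX Φ.N dQ32.n y

/-- the certificates -/
def ct : Ct where
  lc := [(16, 2, 0x5a6999aaaa96665a), (2, 6, 0x6244a41212885862)]
  ec := [(2, 6)]
  lr := [⟨2, 0x506050909090a05, 0, 2, 3⟩,
    ⟨30, 0x510600909209005, 0, 2, 3⟩]
  ls := [(2, 30), (28, 28), (24, 24)]
  g0 := [28, 24, 16, 30]
  K := 0x55555555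
  e := 4
  zl := [16]
  o := []
  ln := []
  en := []

theorem nm : Φ.nms X dQ32.n = true := by decide +kernel

theorem rels : MA.rels dQ32 X = true := by decide +kernel

theorem chkM : ct.chkM (Φ.md ts dQ32 y) dQ32 X = true := by decide +kernel

theorem chkD : ct.chkD dQ32 = true := by decide +kernel

theorem all : Base dQ32 G x ct.K ∧ Nat.card G * 2 ^ ct.e = Nat.card Φ.N * 2 ^ dQ32.n :=
  Φ.base hy dQ32_ok ct hB (by decide +kernel) nm rels chkM chkD

theorem normal : (extN Φ.N dQ32.n y).Normal := extN_normal (Φ.mem_normalizer hy nm)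

theorem rz1 : Rz2 ⟨dQ32, 1, 0⟩ G x := all.1.rz2 (by decide +kernel)

end Lb_4

theorem models_dQ32_1 : Models2 ⟨dQ32, 1, 0⟩ 1 := models2_one Lb_4.rz1

end Cfsg.Agent.FS.N.M
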