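import Cfsg.Agent.FS.N.M.F.L43
import Cfsg.Agent.FS.N.Sp.Sym

/-!
# Models on `dS10` (helper44, project FS/N; generated)
-/

set_option autoImplicit false

namespace Cfsg.Agent.FS.N.M

open Cfsg Cfsg.Agent.FS.Real

open Cfsg.Agent.FS.N.Sp (dS10 dS10_ok)

namespace L43_1

open L43

/-- the codes of the generators -/
def X : ℕ → ℕ := get 69 0x2008040120080401008100081042000420120a00a0cc14014120a0900a095060050600482c82803053050002006004020060040040800c142100120a12040020410800108

theorem ex : ∃ x, MA.RX dS10 X x := Mdl.exists_RX (W := get 1 0) (by decide +kernel)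

/-- the generators in the ambient group -/
noncomputable def y := Classical.choose ex

theorem hy : MA.RX dS10 X y := Classical.choose_spec ex

/-- the group -/
abbrev G : Type := Φ.Gp dS10 y

/-- the generators -/
noncomputable abbrev x : ℕ → G := extX Φ.N dS10.n y

/-- the certificates -/
def ct : Ct where
  lc := [(1, 101, 0x2a685225a9415826), (1, 101, 0), (100, 2, 0x225526a898a28411), (128, 4, 0x1256958461896249),
    (4, 44, 0x45984a52886a9225), (129, 89, 0x2514026a1964a808), (89, 129, 0), (216, 2, 0x142a894151255aa0)]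
  ec := [(4, 44), (89, 2), (101, 2)]
  lr := [⟨66, 0x4010040940100405, 0, 2, 3⟩,
    ⟨216, 0x6a566559559996a5, 0, 2, 3⟩,
    ⟨100, 0x9a4411a625a82a58, 0, 2, 3⟩]
  ls := [(216, 66), (100, 216), (10, 124), (100, 54), (54, 54), (66, 100), (66, 38), (224, 54), (214, 66), (66, 180),
    (66, 54), (10, 180)]
  g0 := [254, 244, 246, 214, 228, 224, 242]
  K := 0x5555555555555555555555555555555555555555555555555555555555555555
  e := 7
  zl := [128]
  o := []
  ln := []
  en := []

theorem nm : Φ.nms X dS10.n = true := by decide +kernel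

theorem rels : MA.rels dS10 X = true := by decide +kernel

theorem chkM : ct.chkM (Φ.md ts dS10 y) dS10 X = true := by decide +kernel

theorem chkD : ct.chkD dS10 = true := by decide +kernel

theorem all : Base dS10 G x ct.K ∧ Nat.card G * 2 ^ ct.e = Nat.card Φ.N * 2 ^ dS10.n :=
  Φ.base hy dS10_ok ct hB (by decide +kernel) nm rels chkM chkD

theorem normal : (extN Φ.N dS10.n y).Normal := extN_normal (Φ.mem_normalizer hy nm)

theorem rz1 : Rz2 ⟨dS10, 1, 0⟩ G x := all.1.rz2 (by decide +kernel)

theorem pos : Pos dS10 x 9 0x209290d0a2f2e0c002 0x50802070600040301 0x30108000706050402 128 :=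
  (rx_ext (Φ.okN_spec ts) hy).pos 0x40100a044010010a 0 0xa040040110a00401 0 (by decide +kernel)

theorem orb : dS10.orb 9 0x209290d0a2f2e0c002 0x50802070600040301 0x30108000706050402 = true := by decide +kernel

end L43_1

end Cfsg.Agent.FS.N.M
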