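import Cfsg.Agent.FS.N.M.F.L43
import Cfsg.Agent.FS.Real.Tab

/-!
# Models on `dS47` (helper44, project FS/N; generated)
-/

set_option autoImplicit false

namespace Cfsg.Agent.FS.N.M

open Cfsg Cfsg.Agent.FS.Real

namespace L43_2

open L43

/-- the codes of the generators -/
def X : ℕ → ℕ := get 69 0x20080401200804010081000810420004200802004088020021008010010480100104050480283283005048010050040100500400a0c004094120021014010080140100801

theorem ex : ∃ x, MA.RX dS47 X x := Mdl.exists_RX (W := get 1 0) (by decide +kernel)

/-- the generators in the ambient group -/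
noncomputable def y := Classical.choose ex

theorem hy : MA.RX dS47 X y := Classical.choose_spec ex

/-- the group -/
abbrev G : Type := Φ.Gp dS47 y

/-- the generators -/
noncomputable abbrev x : ℕ → G := extX Φ.N dS47.n y

/-- the certificates -/
def ct : Ct where
  lc := [(128, 4, 0x118869121a821581), (4, 16, 0x9155a86a225a8214)]
  ec := [(4, 16)]
  lr := [⟨170, 0x4010040940100405, 0, 2, 3⟩,
    ⟨132, 0x6a566559559996a5, 0, 2, 3⟩,
    ⟨220, 0x9a4411a625a82a58, 0, 2, 3⟩]
  ls := [(170, 170), (220, 170), (128, 158), (170, 30), (132, 244), (128, 112), (128, 220), (132, 220), (92, 88),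
    (112, 92), (196, 112), (132, 170), (132, 30), (102, 210), (170, 88), (196, 242)]
  g0 := [254, 252, 180, 236, 196, 240, 244]
  K := 0x5555555555555555555555555555555555555555555555555555555555555555
  e := 7
  zl := [128]
  o := []
  ln := []
  en := []

theorem nm : Φ.nms X dS47.n = true := by decide +kernel

theorem rels : MA.rels dS47 X = true := by decide +kernel

theorem chkM : ct.chkM (Φ.md ts dS47 y) dS47 X = true := by decide +kernel

theorem chkD : ct.chkD dS47 = true := by decide +kernel

theorem all : Base dS47 G x ct.K ∧ Nat.card G * 2 ^ ct.e = Nat.card Φ.N * 2 ^ dS47.n :=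
  Φ.base hy dS47_ok ct hB (by decide +kernel) nm rels chkM chkD

theorem normal : (extN Φ.N dS47.n y).Normal := extN_normal (Φ.mem_normalizer hy nm)

theorem rz1 : Rz2 ⟨dS47, 1, 0⟩ G x := all.1.rz2 (by decide +kernel)

end L43_2

theorem models_dS47_1 : Models2 ⟨dS47, 1, 0⟩ 1 := models2_one L43_2.rz1

end Cfsg.Agent.FS.N.M
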