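import Cfsg.Agent.FS.N.M.F.L34
import Cfsg.Agent.FS.N.M.F.P34
import Cfsg.Agent.FS.Real.Tab

/-!
# Models on `dU34` (helper44, project FS/N; generated)
-/

set_option autoImplicit false

namespace Cfsg.Agent.FS.N.M

open Cfsg Cfsg.Agent.FS.Real

namespace L34_0

open L34

/-- the codes of the generators -/
def X : ℕ → ℕ := get 41 0x8098a0262040445011102120284808105014140408084a02120404150105

theorem ex : ∃ x, MA.RX dU34 X x := Mdl.exists_RX (W := get 1 0) (by decide +kernel)

/-- the generators in the ambient group -/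
noncomputable def y := Classical.choose ex

theorem hy : MA.RX dU34 X y := Classical.choose_spec ex

/-- the group -/
abbrev G : Type := Φ.Gp dU34 y

/-- the generators -/
noncomputable abbrev x : ℕ → G := extX Φ.N dU34.n y

/-- the certificates -/
def ct : Ct where
  lc := [(16, 1, 0x3346f880e), (1, 4, 0x8a068cdfc), (32, 1, 0x238a68c2d), (1, 4, 0x8a068cdfc), (48, 1, 0x13cd9841f),
    (1, 4, 0x8a068cdfc)]
  ec := [(1, 4)]
  lr := [⟨1, 0x114054401, 0, 2, 3⟩, ⟨2, 0x114054401, 0, 2, 3⟩, ⟨4, 0x401150144, 0, 2, 3⟩, ⟨8, 0x401150144, 0, 2, 3⟩]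
  ls := [(8, 2), (4, 2), (42, 54), (4, 60), (2, 54), (54, 42), (2, 60), (1, 62)]
  g0 := [62, 63, 44, 52, 56, 60]
  K := 0xffffffffffffffff
  e := 6
  zl := [16, 32, 48]
  o := [(16, 4, 20, 0x401150144), (32, 4, 36, 0x40235018c), (48, 4, 52, 0x4032501c8)]
  ln := [(16, 4, 2), (32, 4, 2), (48, 4, 2)]
  en := [(4, 4)]

theorem nm : Φ.nms X dU34.n = true := by decide +kernel

theorem rels : MA.rels dU34 X = true := by decide +kernel

theorem chkM : ct.chkM (Φ.md ts dU34 y) dU34 X = true := by decide +kernel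

theorem chkD : ct.chkD dU34 = true := by decide +kernel

theorem all : Base dU34 G x ct.K ∧ Nat.card G * 2 ^ ct.e = Nat.card Φ.N * 2 ^ dU34.n :=
  Φ.base hy dU34_ok ct hB (by decide +kernel) nm rels chkM chkD

theorem normal : (extN Φ.N dU34.n y).Normal := extN_normal (Φ.mem_normalizer hy nm)

theorem lam0 : lamOk dU34 0 ct.K = true := by decide +kernel

end L34_0

namespace P34_0

open P34

/-- the codes of the generators -/
def X : ℕ → ℕ := get 41 0x8098a0262040445011102120284808105014140408084a02120404150105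

theorem ex : ∃ x, MA.RX dU34 X x := Mdl.exists_RX (W := get 1 0) (by decide +kernel)

/-- the generators in the ambient group -/
noncomputable def y := Classical.choose ex

theorem hy : MA.RX dU34 X y := Classical.choose_spec ex

/-- the group -/
abbrev G : Type := Φ.Gp dU34 y

/-- the generators -/
noncomputable abbrev x : ℕ → G := extX Φ.N dU34.n y

/-- the certificates -/
def ct : Ct where
  lc := [(16, 1, 0x214fb4c0b), (1, 4, 0x50544550), (32, 1, 0x214274c11), (1, 4, 0x50544550), (48, 1, 0x314964819),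
    (1, 4, 0x50544550)]
  ec := [(1, 4)]
  lr := [⟨1, 0x114054401, 0, 2, 3⟩, ⟨2, 0x114054401, 0, 2, 3⟩, ⟨4, 0x401150144, 0, 2, 3⟩, ⟨8, 0x401150144, 0, 2, 3⟩]
  ls := [(8, 2), (4, 2), (42, 54), (4, 60), (2, 54), (54, 42), (2, 60), (1, 62)]
  g0 := [62, 63, 44, 52, 56, 60]
  K := 0xffffffffffffffff
  e := 6
  zl := [16, 32, 48]
  o := [(16, 4, 20, 0x401150144), (32, 4, 36, 0x40235018c), (48, 4, 52, 0x4032501c8)]
  ln := [(16, 4, 2), (32, 4, 2), (48, 4, 2)]
  en := [(4, 4)]

theorem nm : Φ.nms X dU34.n = true := by decide +kernel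

theorem rels : MA.rels dU34 X = true := by decide +kernel

theorem chkM : ct.chkM (Φ.md ts dU34 y) dU34 X = true := by decide +kernel

theorem chkD : ct.chkD dU34 = true := by decide +kernel

theorem all : Base dU34 G x ct.K ∧ Nat.card G * 2 ^ ct.e = Nat.card Φ.N * 2 ^ dU34.n :=
  Φ.base hy dU34_ok ct hB (by decide +kernel) nm rels chkM chkD

theorem normal : (extN Φ.N dU34.n y).Normal := extN_normal (Φ.mem_normalizer hy nm)

theorem lam0 : lamOk dU34 0 ct.K = true := by decide +kernel

theorem pos : Pos dU34 x 3 0x20301 0x201 0x201 16 :=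
  (rx_ext (Φ.okN_spec ts) hy).pos 0x40c050201 0 0x40c050201 0 (by decide +kernel)

theorem orb : dU34.orb 3 0x20301 0x201 0x201 = true := by decide +kernel

end P34_0

end Cfsg.Agent.FS.N.M
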